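import Mathlib
import Cfsg.Agent.Helper42.MaxSylB

/-!
# S2222, piece (S1): calculus of compatible permutations
-/

set_option autoImplicit false
set_option linter.unusedSectionVars false
set_option linter.unusedVariables false

namespace Cfsg.Agent.Helper86.AltPro

open Equiv Equiv.Perm Cfsg.Agent.Helper42 Cfsg.Agent.Helper42.MaxSyl

section compat

variable {β γ : Type*} [DecidableEq β] [Fintype β] [DecidableEq γ] [Fintype γ]

/-- (S1a) the data `(σ, f)` of a compatible permutation are unique. -/
theorem compat_unique {ι : β × ZMod 2 ↪ γ} {y : Perm γ} {σ σ' : Perm β} {f f' : β → ZMod 2}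
    (h : Compat ι y σ f) (h' : Compat ι y σ' f') : σ = σ' ∧ f = f' := by
  have key : ∀ i : β, σ i = σ' i ∧ f (σ i) = f' (σ' i) := by
    intro i
    have e := (h.app i 0).symm.trans (h'.app i 0)
    have e2 := ι.injective e
    rw [Prod.mk.injEq] at e2
    refine ⟨e2.1, ?_⟩
    simpa using e2.2
  have hσ : σ = σ' := Equiv.ext (fun i => (key i).1)
  subst hσ
  refine ⟨rfl, ?_⟩
  funext j
  have := (key (σ.symm j)).2
  simpa using this

/-- (S1b) products. -/
theorem compat_mul {ι : β × ZMod 2 ↪ γ} {y y' : Perm γ} {σ σ' : Perm β} {f f' : β → ZMod 2}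
    (h : Compat ι y σ f) (h' : Compat ι y' σ' f') :
    Compat ι (y * y') (σ * σ') (fun j => f' (σ⁻¹ j) + f j) := by
  constructor
  · intro i t
    rw [Perm.mul_apply, h'.app, h.app, Perm.mul_apply]
    congr 2
    rw [perm_inv_apply_self, add_assoc]
  · intro b hb
    rw [Perm.mul_apply, h'.out b hb, h.out b hb]

/-- (S1c) inverses. -/
theorem compat_inv {ι : β × ZMod 2 ↪ γ} {y : Perm γ} {σ : Perm β} {f : β → ZMod 2}
    (h : Compat ι y σ f) : Compat ι y⁻¹ σ⁻¹ (fun j => f (σ j)) := by
  constructor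
  · intro i t
    rw [Perm.inv_eq_iff_eq, h.app, perm_apply_inv_self, add_assoc]
    have : f i + f i = 0 := by
      have := zmod2_cases (f i)
      rcases this with h0 | h1
      · rw [h0]; rfl
      · rw [h1]; decide
    rw [this, add_zero]
  · intro b hb
    rw [Perm.inv_eq_iff_eq, h.out b hb]

/-- (S1d) the base swaps. -/
theorem compat_baseSwap (ι : β × ZMod 2 ↪ γ) (i : β) :
    Compat ι (swap (ι (i, 0)) (ι (i, 1))) 1 (Pi.single i 1) := by
  constructor
  · intro j t
    rw [baseSwap_apply]
    rfl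
  · intro b hb
    exact baseSwap_apply_out ι i b hb

/-- (S1e) the involution `piI`. -/
theorem compat_piI (ι : β × ZMod 2 ↪ γ) : Compat ι (piI ι) 1 (fun _ => 1) := by
  constructor
  · intro i t
    rw [piI_apply]
    rfl
  · intro b hb
    exact piI_out ι hb

/-- a compatible permutation is determined by its data. -/
theorem compat_ext {ι : β × ZMod 2 ↪ γ} {y y' : Perm γ} {σ : Perm β} {f : β → ZMod 2}
    (h : Compat ι y σ f) (h' : Compat ι y' σ f) : y = y' := by
  rw [(compat_iff ι y σ f).mp h, (compat_iff ι y' σ f).mp h']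

/-- the identity. -/
theorem compat_one (ι : β × ZMod 2 ↪ γ) : Compat ι (1 : Perm γ) 1 0 := by
  constructor
  · intro i t
    simp
  · intro b hb
    rfl

/-- conjugates: the fibre permutation of `g * y * g⁻¹` is `σg * σ * σg⁻¹`. -/
theorem exists_compat_conj {ι : β × ZMod 2 ↪ γ} {g y : Perm γ} {τ σ : Perm β}
    {fg f : β → ZMod 2} (hg : Compat ι g τ fg) (h : Compat ι y σ f) :
    ∃ f', Compat ι (g * y * g⁻¹) (τ * σ * τ⁻¹) f' :=
  ⟨_, compat_mul (compat_mul hg h) (compat_inv hg)⟩

end compat

end Cfsg.Agent.Helper86.AltPro
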