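import Mathlib
import Cfsg.Agent.Helper86.AltPro.S1

/-!
# S2222, pieces (S2)–(S6): permutations commuting with `piI`, signs, supports
-/

set_option autoImplicit false
set_option linter.unusedSectionVars false
set_option linter.unusedVariables false

namespace Cfsg.Agent.Helper86.AltPro

open Equiv Equiv.Perm Cfsg.Agent.Helper42 Cfsg.Agent.Helper42.MaxSyl

section compat

variable {β γ : Type*} [DecidableEq β] [Fintype β] [DecidableEq γ] [Fintype γ]

theorem piI_trans (ι : β × ZMod 2 ↪ γ) (g : Perm γ) :
    piI (ι.trans g.toEmbedding) = g * piI ι * g⁻¹ := by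
  have hap : ∀ c, (ι.trans g.toEmbedding) c = g (ι c) := fun c => rfl
  ext b
  by_cases hb : b ∈ Set.range (ι.trans g.toEmbedding)
  · obtain ⟨⟨i, t⟩, rfl⟩ := hb
    rw [piI_apply, hap, hap, Perm.mul_apply, Perm.mul_apply, perm_inv_apply_self, piI_apply]
  · rw [piI_out _ hb, Perm.mul_apply, Perm.mul_apply]
    have h2 : g⁻¹ b ∉ Set.range ι := by
      rintro ⟨c, hc⟩
      apply hb
      refine ⟨c, ?_⟩
      rw [hap, hc, perm_apply_inv_self]
    rw [piI_out ι h2, perm_apply_inv_self]

/-- (S2) a permutation commuting with `piI ι` is compatible, when there is at most one point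
outside the range of `ι`. -/
theorem exists_compat_of_commute_piI (ι : β × ZMod 2 ↪ γ)
    (hout : ∀ b b' : γ, b ∉ Set.range ι → b' ∉ Set.range ι → b = b')
    {g : Perm γ} (hg : g * piI ι = piI ι * g) : ∃ σ f, Compat ι g σ f := by
  have hap : ∀ c, (ι.trans g.toEmbedding) c = g (ι c) := fun c => rfl
  have h1 : piI ι = piI (ι.trans g.toEmbedding) := by
    rw [piI_trans, hg, mul_inv_cancel_right]
  obtain ⟨τ, g', hτ⟩ := exists_reindex h1
  refine ⟨τ, fun j => g' (τ.symm j), ?_⟩
  constructor
  · intro i t
    rw [← hap, hτ]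
    simp
  · intro b hb
    apply hout _ _ _ hb
    intro hgb
    apply hb
    rw [← piI_fixed_iff] at hb
    have : piI ι (g b) = g b := by
      have := congrArg (fun p : Perm γ => p b) hg
      simp only [Perm.mul_apply] at this
      rw [← this, hb]
    exact absurd hgb ((piI_fixed_iff ι _).mp this)

/-- (S3) the sign of a compatible permutation with trivial fibre permutation. -/
theorem sign_of_compat_one {ι : β × ZMod 2 ↪ γ} {y : Perm γ} {f : β → ZMod 2}
    (h : Compat ι y 1 f) :
    Perm.sign y = (-1) ^ (Finset.univ.filter (fun i => f i = 1)).card := by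
  classical
  rw [(compat_iff ι y 1 f).mp h, lf_one, mul_one, viaEmbedding, sign_extendDomain, tr,
    sign_prodCongrRight]
  have h1 : ∀ i : β, Perm.sign (Equiv.addRight (f i)) = if f i = 1 then (-1 : ℤˣ) else 1 := by
    intro i
    rcases zmod2_cases (f i) with h0 | h1
    · rw [h0, if_neg (by decide)]
      have : (Equiv.addRight (0 : ZMod 2)) = 1 := by
        ext x; simp
      rw [this, Perm.sign_one]
    · rw [h1, if_pos rfl]
      decide
  rw [Finset.prod_congr rfl (fun i _ => h1 i), Finset.prod_ite, Finset.prod_const,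
    Finset.prod_const_one, mul_one]

/-- (S3') lifts of fibre permutations are even. -/
theorem sign_of_compat_zero {ι : β × ZMod 2 ↪ γ} {y : Perm γ} {σ : Perm β}
    (h : Compat ι y σ 0) : Perm.sign y = 1 := by
  classical
  rw [(compat_iff ι y σ 0).mp h, tr_zero, one_mul, viaEmbedding, sign_extendDomain, lf,
    sign_prodCongrLeft, Finset.prod_const, Finset.card_univ, ZMod.card]
  exact Int.units_sq _

/-- (S4) the number of moved points. -/
theorem card_support_of_compat_one {ι : β × ZMod 2 ↪ γ} {y : Perm γ} {f : β → ZMod 2}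
    (h : Compat ι y 1 f) :
    y.support.card = 2 * (Finset.univ.filter (fun i => f i = 1)).card := by
  have hs : y.support =
      ((Finset.univ.filter (fun i => f i = 1)) ×ˢ (Finset.univ : Finset (ZMod 2))).map ι := by
    ext b
    rw [Perm.mem_support, Finset.mem_map]
    constructor
    · intro hb
      by_cases hr : b ∈ Set.range ι
      · obtain ⟨⟨i, t⟩, rfl⟩ := hr
        refine ⟨(i, t), ?_, rfl⟩
        rw [Finset.mem_product]
        refine ⟨?_, Finset.mem_univ _⟩
        rw [Finset.mem_filter]
        refine ⟨Finset.mem_univ _, ?_⟩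
        rcases zmod2_cases (f i) with h0 | h1
        · exfalso
          apply hb
          rw [h.app, Perm.one_apply, h0, add_zero]
        · exact h1
      · exact absurd (h.out b hr) hb
    · rintro ⟨⟨i, t⟩, hit, rfl⟩
      rw [Finset.mem_product, Finset.mem_filter] at hit
      rw [h.app, Perm.one_apply, hit.1.2]
      intro e
      have := ι.injective e
      rw [Prod.mk.injEq] at this
      exact zmod2_add_one_ne t this.2
  rw [hs, Finset.card_map, Finset.card_product, Finset.card_univ, ZMod.card, mul_comm]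

/-- (S5a) commuting with all base swaps forces the fibre permutation to be trivial. -/
theorem sigma_eq_one_of_commute_baseSwaps {ι : β × ZMod 2 ↪ γ} {y : Perm γ} {σ : Perm β}
    {f : β → ZMod 2} (h : Compat ι y σ f)
    (hc : ∀ i : β, y * swap (ι (i, 0)) (ι (i, 1)) = swap (ι (i, 0)) (ι (i, 1)) * y) : σ = 1 := by
  ext i
  rw [Perm.one_apply]
  have e := congrArg (fun p : Perm γ => p (ι (i, 0))) (hc i)
  simp only [Perm.mul_apply] at e
  rw [swap_apply_left, h.app, h.app, baseSwap_apply] at e
  have e2 := ι.injective e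
  rw [Prod.mk.injEq] at e2
  by_contra hne
  have h0 : (Pi.single i 1 : β → ZMod 2) (σ i) = 0 := Pi.single_eq_of_ne hne _
  rw [h0, add_zero] at e2
  have := e2.2
  rw [zero_add, add_comm] at this
  exact zmod2_add_one_ne (f (σ i)) this

/-- (S5b) the same with the products of two base swaps, when there are at least three fibres. -/
theorem sigma_eq_one_of_commute_baseSwapPairs {ι : β × ZMod 2 ↪ γ} {y : Perm γ} {σ : Perm β}
    {f : β → ZMod 2} (h : Compat ι y σ f) (h3 : 3 ≤ Fintype.card β)
    (hc : ∀ i j : β, i ≠ j →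
      y * (swap (ι (i, 0)) (ι (i, 1)) * swap (ι (j, 0)) (ι (j, 1))) =
        (swap (ι (i, 0)) (ι (i, 1)) * swap (ι (j, 0)) (ι (j, 1))) * y) : σ = 1 := by
  ext l
  rw [Perm.one_apply]
  by_contra hne
  -- choose j different from l and σ l
  have hex : ∃ j : β, j ≠ l ∧ j ≠ σ l := by
    by_contra hno
    push Not at hno
    have hsub : (Finset.univ : Finset β) ⊆ {l, σ l} := by
      intro j _
      by_cases hjl : j = l
      · rw [hjl]; exact Finset.mem_insert_self _ _
      · rw [hno j hjl]
        exact Finset.mem_insert_of_mem (Finset.mem_singleton_self _)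
    have := Finset.card_le_card hsub
    rw [Finset.card_univ] at this
    have h2 : ({l, σ l} : Finset β).card ≤ 2 := Finset.card_le_two
    omega
  obtain ⟨j, hjl, hjs⟩ := hex
  have hu := compat_mul (compat_baseSwap ι l) (compat_baseSwap ι j)
  have e := congrArg (fun p : Perm γ => p (ι (l, 0))) (hc l j (Ne.symm hjl))
  simp only [Perm.mul_apply] at e
  rw [← Perm.mul_apply (swap (ι (l, 0)) (ι (l, 1))), hu.app, h.app, h.app,
    ← Perm.mul_apply (swap (ι (l, 0)) (ι (l, 1))), hu.app] at e
  have e2 := (ι.injective e)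
  rw [Prod.mk.injEq] at e2
  have e3 := e2.2
  have i1 : ∀ x : β, (1 : Perm β)⁻¹ x = x := by intro x; simp
  have i3 : ∀ x : β, ((1 : Perm β) * 1) x = x := by intro x; simp
  simp only [i3, i1] at e3
  rw [Pi.single_eq_of_ne (Ne.symm hjl), Pi.single_eq_same,
    Pi.single_eq_of_ne (Ne.symm hjs), Pi.single_eq_of_ne hne] at e3
  simp only [zero_add, add_zero] at e3
  exact zmod2_add_one_ne (f (σ l)) (by rw [add_comm]; exact e3)

/-- (S6) commuting with a compatible permutation over `k` makes `f` invariant under `k`. -/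
theorem f_invariant_of_commute {ι : β × ZMod 2 ↪ γ} {y x : Perm γ} {k : Perm β}
    {f f' : β → ZMod 2} (h : Compat ι y 1 f) (hx : Compat ι x k f') (hc : y * x = x * y) :
    ∀ i, f (k i) = f i := by
  intro i
  have e := congrArg (fun p : Perm γ => p (ι (i, 0))) hc
  simp only [Perm.mul_apply] at e
  rw [hx.app, h.app, h.app, hx.app] at e
  have e2 := ι.injective e
  rw [Prod.mk.injEq] at e2
  have e3 := e2.2
  simp only [Perm.one_apply, zero_add] at e3
  rw [add_comm] at e3
  exact add_right_cancel e3

/-- converse of (S6). -/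
theorem commute_of_f_invariant {ι : β × ZMod 2 ↪ γ} {y x : Perm γ} {k : Perm β}
    {f f' : β → ZMod 2} (h : Compat ι y 1 f) (hx : Compat ι x k f')
    (hf : ∀ i, f (k i) = f i) : y * x = x * y := by
  ext b
  rw [Perm.mul_apply, Perm.mul_apply]
  by_cases hb : b ∈ Set.range ι
  · obtain ⟨⟨i, t⟩, rfl⟩ := hb
    rw [hx.app, h.app, h.app, hx.app]
    simp only [Perm.one_apply]
    rw [hf i]
    congr 2
    ring
  · rw [hx.out b hb, h.out b hb, hx.out b hb]

end compat

end Cfsg.Agent.Helper86.AltPro
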