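import Mathlib
import Cfsg.Agent.Helper86.AltPro.S2

/-!
# S2222, piece (S7): `stdW ι K` is self-normalizing when `K` is
-/

set_option autoImplicit false
set_option linter.unusedSectionVars false
set_option linter.unusedVariables false

namespace Cfsg.Agent.Helper86.AltPro

open Equiv Equiv.Perm Cfsg.Agent.Helper42 Cfsg.Agent.Helper42.MaxSyl

section compat

variable {β γ : Type*} [DecidableEq β] [Fintype β] [DecidableEq γ] [Fintype γ]

/-- the standard lift of a fibre permutation. -/
theorem exists_compat_zero (ι : β × ZMod 2 ↪ γ) (k : Perm β) : ∃ x : Perm γ, Compat ι x k 0 :=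
  ⟨(tr (0 : β → ZMod 2) * lf 2 k).viaEmbedding ι, (compat_iff _ _ _ _).mpr rfl⟩

/-- `piI ι` commutes with every element of `stdW ι K`. -/
theorem piI_mul_comm_of_mem {ι : β × ZMod 2 ↪ γ} {K : Subgroup (Perm β)} {x : Perm γ}
    (hx : x ∈ stdW ι K) : x * piI ι = piI ι * x := by
  obtain ⟨σ, _, f, hc⟩ := mem_stdW.mp hx
  ext b
  rw [Perm.mul_apply, Perm.mul_apply]
  exact hc.comm b

/-- if a compatible `g` normalizes a subgroup `S ≤ stdW ι K` containing a lift of every element of
`K`, then its fibre permutation normalizes `K`. -/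
theorem sigma_mem_normalizer {ι : β × ZMod 2 ↪ γ} {K : Subgroup (Perm β)} {S : Subgroup (Perm γ)}
    (hS : S ≤ stdW ι K) (hlift : ∀ k ∈ K, ∃ x ∈ S, Compat ι x k 0)
    {g : Perm γ} {σ : Perm β} {f : β → ZMod 2} (hgc : Compat ι g σ f)
    (hg : g ∈ Subgroup.normalizer (S : Set (Perm γ))) :
    σ ∈ Subgroup.normalizer (K : Set (Perm β)) := by
  have key : ∀ (g' : Perm γ) (σ' : Perm β) (f' : β → ZMod 2), Compat ι g' σ' f' →
      g' ∈ Subgroup.normalizer (S : Set (Perm γ)) → ∀ k ∈ K, σ' * k * σ'⁻¹ ∈ K := by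
    intro g' σ' f' hc' hn k hk
    obtain ⟨x, hxS, hxc⟩ := hlift k hk
    have h1 : g' * x * g'⁻¹ ∈ S := (Subgroup.mem_normalizer_iff.mp hn x).mp hxS
    obtain ⟨k', hk', f'', hc''⟩ := mem_stdW.mp (hS h1)
    obtain ⟨f₃, hc₃⟩ := exists_compat_conj hc' hxc
    rw [(compat_unique hc₃ hc'').1]
    exact hk'
  rw [Subgroup.mem_normalizer_iff]
  intro k
  constructor
  · exact key g σ f hgc hg k
  · intro hk
    have := key g⁻¹ σ⁻¹ _ (compat_inv hgc) (Subgroup.inv_mem _ hg) _ hk
    have e : σ⁻¹ * (σ * k * σ⁻¹) * σ⁻¹⁻¹ = k := by group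
    rwa [e] at this

/-- (S7) `stdW ι K` is self-normalizing when `K` is. -/
theorem normalizer_stdW (ι : β × ZMod 2 ↪ γ)
    (hout : ∀ b b' : γ, b ∉ Set.range ι → b' ∉ Set.range ι → b = b')
    (K : Subgroup (Perm β)) (hK : Subgroup.normalizer (K : Set (Perm β)) = K) :
    Subgroup.normalizer (stdW ι K : Set (Perm γ)) = stdW ι K := by
  apply le_antisymm
  · intro g hg
    have hgn := Subgroup.mem_normalizer_iff.mp hg
    have hpi : piI ι ∈ stdW ι K := mem_stdW.mpr ⟨1, K.one_mem, _, compat_piI ι⟩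
    have hy : g * piI ι * g⁻¹ ∈ stdW ι K := (hgn _).mp hpi
    obtain ⟨σy, hσy, fy, hcy⟩ := mem_stdW.mp hy
    -- `y` is central in `stdW ι K`
    have hcen : ∀ x ∈ stdW ι K, (g * piI ι * g⁻¹) * x = x * (g * piI ι * g⁻¹) := by
      intro x hx
      have hx' : g⁻¹ * x * g ∈ stdW ι K := by
        apply (hgn (g⁻¹ * x * g)).mpr
        have e : g * (g⁻¹ * x * g) * g⁻¹ = x := by group
        rwa [e]
      have hcomm := piI_mul_comm_of_mem hx'
      have e1 : g * piI ι * g⁻¹ * x = g * (piI ι * (g⁻¹ * x * g)) * g⁻¹ := by group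
      have e2 : x * (g * piI ι * g⁻¹) = g * ((g⁻¹ * x * g) * piI ι) * g⁻¹ := by group
      rw [e1, e2, hcomm]
    have hσy1 : σy = 1 :=
      sigma_eq_one_of_commute_baseSwaps hcy (fun i => hcen _ (swap_mem_stdW ι K i))
    subst hσy1
    -- support count
    have hcard : (g * piI ι * g⁻¹).support.card = (piI ι).support.card :=
      Perm.card_support_conj
    rw [card_support_of_compat_one hcy, card_support_of_compat_one (compat_piI ι)] at hcard
    have hfilter : (Finset.univ.filter (fun i : β => fy i = 1)) = Finset.univ := by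
      apply Finset.eq_of_subset_of_card_le (Finset.subset_univ _)
      have h2 : (Finset.univ.filter (fun i : β => (fun _ : β => (1 : ZMod 2)) i = 1)) =
          Finset.univ := by
        apply Finset.filter_true_of_mem
        intro i _
        rfl
      rw [h2] at hcard
      omega
    have hfy : fy = fun _ => 1 := by
      funext i
      have : i ∈ Finset.univ.filter (fun i : β => fy i = 1) := by
        rw [hfilter]; exact Finset.mem_univ _
      exact (Finset.mem_filter.mp this).2
    subst hfy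
    have hyeq : g * piI ι * g⁻¹ = piI ι := compat_ext hcy (compat_piI ι)
    have hcomm : g * piI ι = piI ι * g := by
      calc g * piI ι = (g * piI ι * g⁻¹) * g := by group
        _ = piI ι * g := by rw [hyeq]
    obtain ⟨σ, f, hgc⟩ := exists_compat_of_commute_piI ι hout hcomm
    have hσ : σ ∈ Subgroup.normalizer (K : Set (Perm β)) := by
      refine sigma_mem_normalizer (S := stdW ι K) le_rfl ?_ hgc hg
      intro k hk
      obtain ⟨x, hx⟩ := exists_compat_zero ι k
      exact ⟨x, mem_stdW.mpr ⟨k, hk, 0, hx⟩, hx⟩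
    rw [hK] at hσ
    exact mem_stdW.mpr ⟨σ, hσ, f, hgc⟩
  · exact Subgroup.le_normalizer

end compat

end Cfsg.Agent.Helper86.AltPro
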