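import Mathlib
import Cfsg.Agent.Helper63.AltProS10
import Cfsg.Agent.Helper72.AltProS9
import Cfsg.Agent.Helper72.AltProS13
import Cfsg.Agent.Helper72.AltProS15
import Cfsg.Agent.Helper31.AltProS11

/-!
# S2222: every subgroup of odd index of `A_n` (`n ≥ 5`) is pronormal : assembly

For `n ≥ 6` the Sylow 2-subgroups of `A_n` are self-normalizing (pieces (S1)–(S12), by helper86,
helper63, helper31, helper72, helper69), hence every subgroup containing one is pronormal (S13, S14);
`n = 5` by hand (S15).
-/

set_option autoImplicit false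
set_option linter.unusedSectionVars false
set_option linter.unusedVariables false

namespace Cfsg.Agent.Helper86.AltPro

open Equiv Equiv.Perm Cfsg.Agent.Helper42 Cfsg.Agent.Helper42.MaxSyl

section compat

variable {β γ : Type*} [DecidableEq β] [Fintype β] [DecidableEq γ] [Fintype γ]

/-- (S10) the even part of `stdW ι K` has normalizer `stdW ι K`, for at least three fibres. -/
theorem normalizer_stdW_inf_alternating (ι : β × ZMod 2 ↪ γ)
    (hout : ∀ b b' : γ, b ∉ Set.range ι → b' ∉ Set.range ι → b = b')
    (K : Sylow 2 (Perm β))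
    (hK : Subgroup.normalizer ((K : Subgroup (Perm β)) : Set (Perm β)) = K)
    (h3 : 3 ≤ Fintype.card β) :
    Subgroup.normalizer ((stdW ι (K : Subgroup (Perm β)) ⊓ alternatingGroup γ :
      Subgroup (Perm γ)) : Set (Perm γ)) = stdW ι (K : Subgroup (Perm β)) :=
  Cfsg.Agent.Helper63.AltPro.normalizer_stdW_inf_alternating_of ι hout (K : Subgroup (Perm β)) hK h3
    (fun i j hi hj => Cfsg.Agent.Helper72.AltPro.sylow_two_fixedPoint_unique K hi hj)
    (fun hodd => Cfsg.Agent.Helper72.AltPro.exists_fixedPoint_of_odd (K : Subgroup (Perm β))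
      K.isPGroup' hodd)

end compat

/-- (S12) Sylow 2-subgroups of `A_n`, `n ≥ 6`, are self-normalizing. -/
theorem sylow_two_alternating_normalizer (n : ℕ) (hn : 6 ≤ n)
    (P : Sylow 2 (alternatingGroup (Fin n))) :
    Subgroup.normalizer ((P : Subgroup (alternatingGroup (Fin n))) :
      Set (alternatingGroup (Fin n))) = P :=
  Cfsg.Agent.Helper31.AltPro.sylow_two_alternating_normalizer_of n hn
    (fun ι hout K hK h3 => normalizer_stdW_inf_alternating ι hout K hK h3) P

/-- **S2222**. -/
theorem main (n : ℕ) (hn : 5 ≤ n)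
    (H : Subgroup (alternatingGroup (Fin n))) (hH : Odd H.index) : Cfsg.IsPronormal H := by
  rcases Nat.lt_or_ge n 6 with h | h
  · obtain rfl : n = 5 := by omega
    exact Cfsg.Agent.Helper72.AltPro.isPronormal_alt_five H hH
  · obtain ⟨P, hPH⟩ := Cfsg.Agent.Helper72.AltPro.exists_sylow_le_of_odd_index H hH
    exact Cfsg.Agent.Helper72.AltPro.isPronormal_of_sylow_le P
      (sylow_two_alternating_normalizer n h P) H hPH

end Cfsg.Agent.Helper86.AltPro
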