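import Mathlib
import Cfsg.Agent.Helper86.AltPro.S7

/-!
# S2222, piece (S8): Sylow 2-subgroups of symmetric groups are self-normalizing
-/

set_option autoImplicit false
set_option linter.unusedSectionVars false
set_option linter.unusedVariables false

namespace Cfsg.Agent.Helper86.AltPro

open Equiv Equiv.Perm Cfsg.Agent.Helper42 Cfsg.Agent.Helper42.MaxSyl

/-- at most one point of `Fin n` lies outside the range of an embedding of
`Fin (n / 2) × ZMod 2`. -/
theorem outside_unique (n : ℕ) (ι : Fin (n / 2) × ZMod 2 ↪ Fin n) :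
    ∀ b b' : Fin n, b ∉ Set.range ι → b' ∉ Set.range ι → b = b' := by
  intro b b' hb hb'
  by_contra hne
  have hsub : (Finset.univ.map ι) ⊆ (Finset.univ.erase b).erase b' := by
    intro x hx
    rw [Finset.mem_map] at hx
    obtain ⟨c, _, rfl⟩ := hx
    rw [Finset.mem_erase, Finset.mem_erase]
    refine ⟨?_, ?_, Finset.mem_univ _⟩
    · rintro rfl; exact hb' ⟨c, rfl⟩
    · rintro rfl; exact hb ⟨c, rfl⟩
  have h1 := Finset.card_le_card hsub
  rw [Finset.card_map, Finset.card_univ, Fintype.card_prod, Fintype.card_fin, ZMod.card,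
    Finset.card_erase_of_mem, Finset.card_erase_of_mem (Finset.mem_univ _), Finset.card_univ,
    Fintype.card_fin] at h1
  · omega
  · rw [Finset.mem_erase]
    exact ⟨fun h => hne h.symm, Finset.mem_univ _⟩

/-- (S8) Sylow 2-subgroups of symmetric groups are self-normalizing. -/
theorem sylow_two_perm_normalizer (n : ℕ) (P : Sylow 2 (Perm (Fin n))) :
    Subgroup.normalizer ((P : Subgroup (Perm (Fin n))) : Set (Perm (Fin n))) = P := by
  induction n using Nat.strong_induction_on with
  | _ n ih =>
    rcases Nat.eq_zero_or_pos n with h0 | hpos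
    · subst h0
      apply le_antisymm
      · intro g _
        rw [Subsingleton.elim g 1]
        exact Subgroup.one_mem _
      · exact Subgroup.le_normalizer
    · have hlt : n / 2 < n := Nat.div_lt_self hpos (by norm_num)
      obtain ⟨Pm0⟩ : Nonempty (Sylow 2 (Perm (Fin (n / 2)))) := inferInstance
      obtain ⟨ι, hι⟩ := sylow_eq_stdW n Pm0 P
      rw [hι]
      exact normalizer_stdW ι (outside_unique n ι) _ (ih (n / 2) hlt Pm0)

end Cfsg.Agent.Helper86.AltPro
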